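import Groth.Agent.EtTraceLib.SkyVanish
import Groth.Agent.EtTraceLib.SepExt
import Groth.Agent.EtPtsLib.RecollEquiv
import Groth.Agent.SHTensor.Basic
import Groth.Agent.FLCLib.Filtration
import Mathlib.AlgebraicGeometry.AlgClosed.Basic

/-!
# Sheaves supported at one closed point over a separably closed field
-/

set_option autoImplicit false
set_option backward.isDefEq.respectTransparency false
set_option linter.style.haveILetI false

universe u

open CategoryTheory CategoryTheory.Limits AlgebraicGeometry Opposite CategoryTheory.Abelian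

noncomputable section

namespace Groth.Agent.EtClosedPts

open EtTraceLib EtPtsLib

/-- Higher cohomology of a separably closed field vanishes. -/
theorem H_eq_zero_of_sepClosed (K : Type u) [Field K] [IsSepClosed K] (F : EtCoh.Ab (Spec (CommRingCat.of K))) (n : ℕ)
    (x : EtCoh.H (Spec (CommRingCat.of K)) F (n + 1)) : x = 0 := by
  haveI : IsSepClosed (IsLocalRing.ResidueField K) :=
    SHTensor.isSepClosed_of_isAlgebraic K (IsLocalRing.ResidueField K)
  exact @Subsingleton.elim _ (EtVanish.subsingleton_H_strictlyHenselian K F n) x 0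

theorem fieldAcyclic_of_sepClosed (K : Type u) [Field K] [IsSepClosed K] (F : EtCoh.Ab (Spec (CommRingCat.of K))) :
    FieldAcyclic K F := by
  intro L _ _ _ _ q x
  haveI : Algebra.IsAlgebraic K L := Algebra.IsAlgebraic.of_finite K L
  haveI : IsSepClosed L := SHTensor.isSepClosed_of_isAlgebraic K L
  exact H_eq_zero_of_sepClosed L _ q x

variable {k : Type u} [Field k] [IsSepClosed k] {X : Scheme.{u}} (f : X ⟶ Spec (CommRingCat.of k))
  [LocallyOfFiniteType f]

include f in
/-- Residue fields at closed points are separably closed. -/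
theorem isSepClosed_residueField (x : X) (hx : IsClosed ({x} : Set X)) : IsSepClosed (X.residueField x) := by
  haveI : IsFinite (X.fromSpecResidueField x ≫ f) := by
    rw [isClosed_singleton_iff_isClosedImmersion] at hx
    rw [isFinite_iff_locallyOfFiniteType_of_jacobsonSpace]
    infer_instance
  let φ := (Spec.preimage (X.fromSpecResidueField x ≫ f)).hom
  have hfin : φ.Finite := by
    rw [← IsFinite.SpecMap_iff, Spec.map_preimage]
    infer_instance
  letI : Algebra k (X.residueField x) := φ.toAlgebra
  haveI : Module.Finite k (X.residueField x) := hfin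
  haveI : Algebra.IsAlgebraic k (X.residueField x) := Algebra.IsAlgebraic.of_finite _ _
  exact SHTensor.isSepClosed_of_isAlgebraic k (X.residueField x)

omit f in
/-- A sheaf supported at a closed point is a skyscraper. -/
theorem isIso_unit_of_supp {F : EtCoh.Ab X} (x : X) (hx : IsClosed ({x} : Set X)) (hF : EtPBC.supp F ⊆ {x}) :
    IsIso ((EtCoh.pullPushAdj (X.fromSpecResidueField x)).unit.app F) := by
  haveI : IsClosedImmersion (X.fromSpecResidueField x) := isClosed_singleton_iff_isClosedImmersion.1 hx
  let i := X.fromSpecResidueField x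
  refine FLCLib.isIso_of_stalk _ fun Ω _ _ ξ => ?_
  by_cases hξ : ξ default ∈ Set.range i
  · obtain ⟨⟨y, a⟩, rfl⟩ := (Scheme.SpecToEquivOfField Ω X).symm.surjective ξ
    obtain rfl : y = x := by
      rw [Scheme.range_fromSpecResidueField] at hξ
      simpa [Scheme.SpecToEquivOfField] using hξ
    obtain ⟨ζ, hζ⟩ : ∃ ζ, ζ ≫ i = (Scheme.SpecToEquivOfField Ω X).symm ⟨y, a⟩ := ⟨Spec.map a, rfl⟩
    rw [← hζ]
    exact isIso_stalk_unit_immersion i ζ F
  · have h1 : IsZero ((EtCoh.stalk ξ).obj F) := by
      by_contra h
      refine hξ ?_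
      have := hF ⟨Ω, inferInstance, inferInstance, ξ, range_eq_singleton ξ, h⟩
      rw [Set.mem_singleton_iff.1 this, Scheme.range_fromSpecResidueField]
      rfl
    have h2 : IsZero ((EtCoh.stalk ξ).obj ((EtCoh.pull i ⋙ EtCoh.push i).obj F)) :=
      isZero_stalk_push_ab i ξ i.isClosedEmbedding.isClosed_range hξ _
    exact isIso_of_source_target_iso_zero _ h1.isoZero h2.isoZero

include f in
/-- Higher cohomology of a sheaf supported at a closed point vanishes. -/
theorem H_eq_zero_of_supp {F : EtCoh.Ab X} (x : X) (hx : IsClosed ({x} : Set X)) (hF : EtPBC.supp F ⊆ {x}) (n : ℕ)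
    (e : EtCoh.H X F (n + 1)) : e = 0 := by
  haveI := isSepClosed_residueField f x hx
  haveI := isIso_unit_of_supp x hx hF
  let u := asIso ((EtCoh.pullPushAdj (X.fromSpecResidueField x)).unit.app F)
  have h1 : e.comp (Ext.mk₀ u.hom) (add_zero _) = 0 :=
    H_push_eq_zero (k := (X.residueField x : Type u)) (X.fromSpecResidueField x)
      (fieldAcyclic_of_sepClosed (X.residueField x) _) (n + 1) (H_eq_zero_of_sepClosed (X.residueField x) _ n) _
  have h2 : (e.comp (Ext.mk₀ u.hom) (add_zero _)).comp (Ext.mk₀ u.inv) (add_zero _) = e := by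
    rw [Ext.comp_assoc_of_second_deg_zero, Ext.mk₀_comp_mk₀, Iso.hom_inv_id, Ext.comp_mk₀_id]
  rw [← h2, h1, Ext.zero_comp]

end Groth.Agent.EtClosedPts
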