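import Groth.Agent.EtClosedPts.PointLift
import Groth.Agent.EtClosedPts.Sky

/-!
# Stalks of direct images from residue fields
-/

set_option autoImplicit false
set_option backward.isDefEq.respectTransparency false
set_option backward.isDefEq.respectTransparency.types false
set_option linter.style.haveILetI false

universe u

open CategoryTheory CategoryTheory.Limits AlgebraicGeometry Opposite CategoryTheory.Abelian

noncomputable section

namespace Groth.Agent.EtClosedPts

open EtPtsLib

variable {X : Scheme.{u}} (y : X) {Ω : Type u} [Field Ω] [IsSepClosed Ω] (ξ : Spec (CommRingCat.of Ω) ⟶ X)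

/-- The pull back to a residue field. -/
abbrev atPt (F : EtCoh.Ab X) : EtCoh.Ab (Spec (X.residueField y)) := (EtCoh.pull (X.fromSpecResidueField y)).obj F

/-- The unit at a point. -/
abbrev ptUnit (F : EtCoh.Ab X) : F ⟶ (EtCoh.push (X.fromSpecResidueField y)).obj (atPt y F) :=
  (EtCoh.pullPushAdj (X.fromSpecResidueField y)).unit.app F

theorem exists_comp_point (h : ξ default = y) :
    ∃ ζ : Spec (CommRingCat.of Ω) ⟶ Spec (X.residueField y), ξ = ζ ≫ X.fromSpecResidueField y := by
  obtain ⟨⟨z, a⟩, rfl⟩ := (Scheme.SpecToEquivOfField Ω X).symm.surjective ξ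
  obtain rfl : z = y := by simpa [Scheme.SpecToEquivOfField] using h
  exact ⟨Spec.map a, rfl⟩

theorem isIso_stalk_ptUnit (h : ξ default = y) (F : EtCoh.Ab X) : IsIso ((EtCoh.stalk ξ).map (ptUnit y F)) := by
  obtain ⟨ζ, rfl⟩ := exists_comp_point y ξ h
  exact isIso_stalk_unit (A := AddCommGrpCat.{u + 1}) (X.fromSpecResidueField y) ζ
    (liftsLocally_fromSpecResidueField y) (bcInducing_fromSpecResidueField y) F

/-- The stalk of a direct image from a point which is not generalizing the given one is zero. -/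
theorem isZero_stalk_push_point (h : ¬ y ⤳ ξ default) (G : EtCoh.Ab (Spec (X.residueField y))) :
    IsZero ((EtCoh.stalk ξ).obj ((EtCoh.push (X.fromSpecResidueField y)).obj G)) := by
  refine AddCommGrpCat.isZero_iff_subsingleton.2 ⟨fun a b => ?_⟩
  obtain ⟨U, l, s, t, rfl, rfl⟩ := (Scheme.pointSmallEtale ξ).toPresheafFiber_jointly_surjective₂
    (P := ((EtCoh.push (X.fromSpecResidueField y)).obj G).obj) a b
  haveI : AlgebraicGeometry.Etale U.hom := U.prop
  let O : U.left.Opens := ⟨U.hom ⁻¹' (closure {y})ᶜ, isClosed_closure.isOpen_compl.preimage U.hom.continuous⟩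
  let V : X.Etale := Scheme.Etale.mk (O.ι ≫ U.hom)
  let g : V ⟶ U := MorphismProperty.Over.homMk O.ι rfl
  have hO : liftHom ξ l default ∈ O := by
    intro hc
    have e : U.hom (liftHom ξ l default) = ξ default :=
      (Scheme.Hom.comp_apply _ _ _).symm.trans (congrArg (fun m => m default) (liftHom_comp ξ l))
    exact h (specializes_iff_mem_closure.2 ((congrArg (· ∈ closure {y}) e).mp hc))
  obtain ⟨y', hy'⟩ := exists_fiber_map_eq ξ g l (⟨_, hO⟩ : O.toScheme) rfl
  have hd : Disjoint (Set.range V.hom) (Set.range (X.fromSpecResidueField y)) := by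
    rw [Scheme.range_fromSpecResidueField, Set.disjoint_singleton_right]
    rintro ⟨z, hz⟩
    exact z.2 (subset_closure hz)
  haveI := AddCommGrpCat.subsingleton_of_isZero
    (IsZero.of_iso (isZero_zero _) ((Sheaf.isTerminalOfBotCover G _
      (bot_mem_of_disjoint (X.fromSpecResidueField y) hd)).uniqueUpToIso HasZeroObject.zeroIsTerminal))
  refine ((Scheme.pointSmallEtale ξ).toPresheafFiber_eq_iff' U _ s t).2 ⟨V, g, y', hy', ?_⟩
  exact Subsingleton.elim (α := ↑(G.obj.obj (op ((EtCoh.bc (X.fromSpecResidueField y)).obj V)))) _ _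

/-- Direct image from a point preserves surjections on stalks over the point. -/
theorem surjective_stalk_push_map (h : ξ default = y) {A B : EtCoh.Ab (Spec (X.residueField y))} (a : A ⟶ B) [Epi a] :
    Function.Surjective ((EtCoh.stalk ξ).map ((EtCoh.push (X.fromSpecResidueField y)).map a)) := by
  obtain ⟨ζ, rfl⟩ := exists_comp_point y ξ h
  let i := X.fromSpecResidueField y
  haveI := isIso_counit_ab i (liftsLocally_fromSpecResidueField y) (bcInducing_fromSpecResidueField y) A
  haveI := isIso_counit_ab i (liftsLocally_fromSpecResidueField y) (bcInducing_fromSpecResidueField y) B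
  haveI : Epi ((EtCoh.pull i).map ((EtCoh.push i).map a)) := by
    have e := (EtCoh.pullPushAdj i).counit.naturality a
    haveI : Epi ((EtCoh.pullPushAdj i).counit.app A ≫ a) := epi_comp _ _
    have e' : (EtCoh.pull i).map ((EtCoh.push i).map a) =
        ((EtCoh.pullPushAdj i).counit.app A ≫ a) ≫ inv ((EtCoh.pullPushAdj i).counit.app B) := by
      rw [IsIso.eq_comp_inv]; exact e
    rw [e']
    exact epi_comp _ _
  haveI : Epi ((EtCoh.stalk ζ).map ((EtCoh.pull i).map ((EtCoh.push i).map a))) :=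
    (AddCommGrpCat.epi_iff_surjective _).2 ((epi_iff_ab _).1 inferInstance Ω ζ)
  refine (AddCommGrpCat.epi_iff_surjective _).1 ?_
  let e := pullStalkIso i ζ AddCommGrpCat.{u + 1}
  have hn := e.hom.naturality ((EtCoh.push i).map a)
  haveI : Epi (e.hom.app ((EtCoh.push i).obj A) ≫ (EtCoh.stalk (ζ ≫ i)).map ((EtCoh.push i).map a)) := by
    rw [← hn]
    haveI : Epi ((EtCoh.pull i ⋙ EtCoh.stalk ζ).map ((EtCoh.push i).map a)) := ‹_›
    exact epi_comp _ _
  exact epi_of_epi (e.hom.app ((EtCoh.push i).obj A)) _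

/-- Inverse image to a point inverts maps which are bijective on the stalks there. -/
theorem isIso_atPt_map {F G : EtCoh.Ab X} (a : F ⟶ G)
    (h : ∀ (Ω : Type u) [Field Ω] [IsSepClosed Ω] (ξ : Spec (CommRingCat.of Ω) ⟶ X),
      ξ default = y → IsIso ((EtCoh.stalk ξ).map a)) :
    IsIso ((EtCoh.pull (X.fromSpecResidueField y)).map a) := by
  refine FLCLib.isIso_of_stalk _ fun Ω _ _ ζ => ?_
  refine (NatIso.isIso_map_iff (pullStalkIso (X.fromSpecResidueField y) ζ AddCommGrpCat.{u + 1}) a).2 ?_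
  refine h Ω _ ?_
  have : (ζ ≫ X.fromSpecResidueField y) default ∈ Set.range (X.fromSpecResidueField y) := ⟨_, (Scheme.Hom.comp_apply _ _ _).symm⟩
  rw [Scheme.range_fromSpecResidueField] at this
  exact this

/-- Torsion sheaves have torsion stalks. -/
theorem isOfFinAddOrder_of_isTorsion {F : EtCoh.Ab X} (hF : EtCoh.IsTorsion F) (b : (EtCoh.stalk ξ).obj F) :
    IsOfFinAddOrder b := by
  obtain ⟨U, l, s, rfl⟩ := (Scheme.pointSmallEtale ξ).toPresheafFiber_jointly_surjective b
  obtain ⟨V, g, ⟨v, hv⟩, hg⟩ := hF U s (liftHom ξ l default)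
  obtain ⟨l', rfl⟩ := exists_fiber_map_eq ξ g l v hv
  refine (congrArg IsOfFinAddOrder ?_).mp (((Scheme.pointSmallEtale ξ).toPresheafFiber V l' F.obj).hom.isOfFinAddOrder hg)
  exact (Scheme.pointSmallEtale ξ).toPresheafFiber_w_apply g l' F.obj s

omit y ξ in
/-- Sheaves with torsion stalks are torsion. -/
theorem isTorsion_of_stalks {F : EtCoh.Ab X}
    (h : ∀ (Ω : Type u) [Field Ω] [IsSepClosed Ω] (ξ : Spec (CommRingCat.of Ω) ⟶ X) (b : (EtCoh.stalk ξ).obj F),
      IsOfFinAddOrder b) : EtCoh.IsTorsion F := by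
  intro U s x
  obtain ⟨l, hl⟩ := exists_lift_geomPt x
  obtain ⟨n, hn, hn0⟩ := isOfFinAddOrder_iff_nsmul_eq_zero.1 (h _ _ (germ _ F l s))
  have : germ _ F l (n • s) = 0 := (map_nsmul _ n s).trans hn0
  have h' : x ∉ EtShriek.sectSupp F U (n • s) := hl ▸ (germ_eq_zero_iff _ F l _).1 this
  simp only [EtShriek.sectSupp, Set.mem_ofPred_eq, not_forall, ne_eq, not_not] at h'
  obtain ⟨W, g, hw, hg⟩ := h'
  exact ⟨W, g, hw, isOfFinAddOrder_iff_nsmul_eq_zero.2 ⟨n, hn, by rw [← map_nsmul]; exact hg⟩⟩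

omit ξ in
/-- Inverse image to a point of a torsion sheaf is torsion. -/
theorem isTorsion_atPt {F : EtCoh.Ab X} (hF : EtCoh.IsTorsion F) : EtCoh.IsTorsion (atPt y F) := by
  refine isTorsion_of_stalks fun Ω _ _ ζ b => ?_
  let e := (pullStalkIso (X.fromSpecResidueField y) ζ AddCommGrpCat.{u + 1}).app F
  have hb := (e.inv.hom).isOfFinAddOrder (isOfFinAddOrder_of_isTorsion (ζ ≫ X.fromSpecResidueField y) hF (e.hom b))
  have e1 : e.inv (e.hom b) = b := e.hom_inv_id_apply b
  exact e1 ▸ hb

end Groth.Agent.EtClosedPts
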