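import Groth.Agent.EtClosedPts.Decomp
import Groth.Agent.DimLiftLib.Basic

/-!
# Sheaves vanishing at the generic points of a curve
-/

set_option autoImplicit false
set_option backward.isDefEq.respectTransparency false
set_option linter.style.haveILetI false

universe u

open CategoryTheory CategoryTheory.Limits AlgebraicGeometry Opposite CategoryTheory.Abelian

noncomputable section

namespace Groth.Agent.EtClosedPts

open EtTraceLib EtPtsLib

variable {X : Scheme.{u}}

/-- On a scheme of dimension at most one a point is closed or maximal. -/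
theorem isClosed_or_maximal (hdim : topologicalKrullDim X ≤ 1) (x : X) :
    IsClosed ({x} : Set X) ∨ ∀ y : X, y ⤳ x → y = x := by
  have hd : Order.krullDim ↥X ≤ 1 := (DimLiftLib.topologicalKrullDim_eq ↥X).symm.trans_le hdim
  rcases Order.krullDim_le_one_iff.1 hd x with h | h
  · left
    refine isClosed_of_closure_subset fun y hy => ?_
    have hs : x ⤳ y := specializes_iff_mem_closure.2 hy
    exact (Specializes.antisymm (h hs : y ⤳ x) hs).eq
  · exact Or.inr fun y hy => (hy.antisymm (h hy : x ⤳ y)).eq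

/-- A sheaf vanishing at the maximal points of a curve is supported at closed points. -/
theorem supp_closed_of_maximal (hdim : topologicalKrullDim X ≤ 1) (F : EtCoh.Ab X)
    (hgen : ∀ (Ω : Type u) [Field Ω] [IsSepClosed Ω] (ξ : Spec (CommRingCat.of Ω) ⟶ X),
      (∀ x ∈ Set.range ξ.base, ∀ y : X, y ⤳ x → y = x) → IsZero ((EtCoh.stalk ξ).obj F)) :
    ∀ x ∈ EtPBC.supp F, IsClosed ({x} : Set X) := by
  rintro x ⟨Ω, _, _, ξ, hξ, hne⟩
  refine (isClosed_or_maximal hdim x).resolve_right fun hmax => hne (hgen Ω ξ fun z hz => ?_)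
  obtain rfl : z = x := Set.mem_singleton_iff.1 (hξ ▸ hz)
  exact hmax

variable {k : Type u} [Field k] [IsSepClosed k] (f : X ⟶ Spec (CommRingCat.of k)) [LocallyOfFiniteType f]
  [QuasiCompact f]

include f in
theorem subsingleton_H_of_maximal (hdim : topologicalKrullDim X ≤ 1) (F : EtCoh.Ab X)
    (hgen : ∀ (Ω : Type u) [Field Ω] [IsSepClosed Ω] (ξ : Spec (CommRingCat.of Ω) ⟶ X),
      (∀ x ∈ Set.range ξ.base, ∀ y : X, y ⤳ x → y = x) → IsZero ((EtCoh.stalk ξ).obj F))
    (q : ℕ) (hq : 0 < q) : Subsingleton (EtCoh.H X F q) := by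
  haveI : IsLocallyNoetherian X := LocallyOfFiniteType.isLocallyNoetherian f
  haveI : CompactSpace X := (quasiCompact_iff_compactSpace f).1 inferInstance
  haveI : IsNoetherian X := { }
  exact subsingleton_H_of_supp_closedPoints F f (supp_closed_of_maximal hdim F hgen) q hq

omit [IsSepClosed k] f in
/-- The kernel and the cokernel of a map which is bijective on a stalk have zero stalk there. -/
theorem isZero_stalk_kernel_cokernel {F G : EtCoh.Ab X} (φ : F ⟶ G) {Ω : Type u} [Field Ω] [IsSepClosed Ω]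
    (ξ : Spec (CommRingCat.of Ω) ⟶ X) (h : IsIso ((EtCoh.stalk ξ).map φ)) :
    IsZero ((EtCoh.stalk ξ).obj (kernel φ)) ∧ IsZero ((EtCoh.stalk ξ).obj (cokernel φ)) := by
  refine ⟨AddCommGrpCat.isZero_iff_subsingleton.2 ⟨fun a b => ?_⟩, ?_⟩
  · apply stalk_injective (kernel.ι φ) ξ
    apply (ConcreteCategory.bijective_of_isIso ((EtCoh.stalk ξ).map φ)).1
    have e : (EtCoh.stalk ξ).map (kernel.ι φ) ≫ (EtCoh.stalk ξ).map φ = 0 := by
      rw [← Functor.map_comp, kernel.condition, Functor.map_zero]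
    exact (ConcreteCategory.congr_hom e a).trans (ConcreteCategory.congr_hom e b).symm
  · haveI : Epi ((EtCoh.stalk ξ).map (cokernel.π φ)) :=
      (AddCommGrpCat.epi_iff_surjective _).2 ((epi_iff_ab (cokernel.π φ)).1 inferInstance Ω ξ)
    refine IsZero.of_epi_eq_zero ((EtCoh.stalk ξ).map (cokernel.π φ)) ?_
    rw [← cancel_epi ((EtCoh.stalk ξ).map φ), ← Functor.map_comp, cokernel.condition, Functor.map_zero, comp_zero]

omit [IsSepClosed k] f in
/-- The maps on cohomology of a short exact sequence whose first term is acyclic. -/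
theorem bijective_g {S : ShortComplex (EtCoh.Ab X)} (hS : S.ShortExact)
    (h : ∀ q : ℕ, 0 < q → Subsingleton (EtCoh.H X S.X₁ q)) (q : ℕ) (hq : 0 < q) :
    Function.Bijective (fun e : EtCoh.H X S.X₂ q => e.comp (Ext.mk₀ S.g) (add_zero q)) := by
  refine ⟨fun a b hab => sub_eq_zero.1 ?_, fun c => ?_⟩
  · have h0 : (a - b).comp (Ext.mk₀ S.g) (add_zero q) = 0 := by
      rw [sub_eq_add_neg, Ext.add_comp, Ext.neg_comp, ← sub_eq_add_neg, sub_eq_zero]; exact hab
    obtain ⟨y, hy⟩ := Ext.covariant_sequence_exact₂ _ hS (a - b) h0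
    rw [← hy, @Subsingleton.elim _ (h q hq) y 0, Ext.zero_comp]
  · exact Ext.covariant_sequence_exact₃ _ hS c rfl (@Subsingleton.elim _ (h (q + 1) (Nat.succ_pos q)) _ _)

omit [IsSepClosed k] f in
/-- The maps on cohomology of a short exact sequence whose last term is acyclic. -/
theorem bijective_f {S : ShortComplex (EtCoh.Ab X)} (hS : S.ShortExact)
    (h : ∀ q : ℕ, 0 < q → Subsingleton (EtCoh.H X S.X₃ q)) (q : ℕ) (hq : 1 < q) :
    Function.Bijective (fun e : EtCoh.H X S.X₁ q => e.comp (Ext.mk₀ S.f) (add_zero q)) := by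
  refine ⟨fun a b hab => sub_eq_zero.1 ?_, fun c => ?_⟩
  · have h0 : (a - b).comp (Ext.mk₀ S.f) (add_zero q) = 0 := by
      rw [sub_eq_add_neg, Ext.add_comp, Ext.neg_comp, ← sub_eq_add_neg, sub_eq_zero]; exact hab
    obtain ⟨n, rfl⟩ : ∃ n, q = n + 1 := ⟨q - 1, by omega⟩
    obtain ⟨y, hy⟩ := Ext.covariant_sequence_exact₁ _ hS (a - b) h0 rfl
    rw [← hy, @Subsingleton.elim _ (h n (by omega)) y 0, Ext.zero_comp]
  · exact Ext.covariant_sequence_exact₂ _ hS c (@Subsingleton.elim _ (h q (by omega)) _ _)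

include f in
/-- A map bijective at the maximal points induces bijections on higher cohomology. -/
theorem bijective_map_of_maximal (hdim : topologicalKrullDim X ≤ 1) {F G : EtCoh.Ab X} (φ : F ⟶ G)
    (hgen : ∀ (Ω : Type u) [Field Ω] [IsSepClosed Ω] (ξ : Spec (CommRingCat.of Ω) ⟶ X),
      (∀ x ∈ Set.range ξ.base, ∀ y : X, y ⤳ x → y = x) → IsIso ((EtCoh.stalk ξ).map φ))
    (q : ℕ) (hq : 1 < q ∨ (q = 1 ∧ Epi φ)) :
    Function.Bijective (fun e : EtCoh.H X F q => e.comp (Ext.mk₀ φ) (add_zero q)) := by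
  have hK := fun n hn => subsingleton_H_of_maximal f hdim (kernel φ)
    (fun Ω _ _ ξ h => (isZero_stalk_kernel_cokernel φ ξ (hgen Ω ξ h)).1) n hn
  have hC := fun n hn => subsingleton_H_of_maximal f hdim (cokernel φ)
    (fun Ω _ _ ξ h => (isZero_stalk_kernel_cokernel φ ξ (hgen Ω ξ h)).2) n hn
  let S₁ := ShortComplex.mk (kernel.ι φ) (Abelian.factorThruImage φ) (by
    rw [← cancel_mono (Abelian.image.ι φ), Category.assoc, Abelian.image.fac, kernel.condition, zero_comp])
  let S₂ := ShortComplex.mk (Abelian.image.ι φ) (cokernel.π φ) (kernel.condition _)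
  have hS₁ : S₁.ShortExact := ⟨ShortComplex.exact_of_f_is_kernel _ (isKernelOfComp (Abelian.image.ι φ) φ
    (kernelIsKernel φ) S₁.zero (Abelian.image.fac φ))⟩
  have hS₂ : S₂.ShortExact := ⟨ShortComplex.exact_of_f_is_kernel _ (kernelIsKernel _)⟩
  have e : (fun e : EtCoh.H X F q => e.comp (Ext.mk₀ φ) (add_zero q)) =
      (fun e : EtCoh.H X (Abelian.image φ) q => e.comp (Ext.mk₀ (Abelian.image.ι φ)) (add_zero q)) ∘
        fun e : EtCoh.H X F q => e.comp (Ext.mk₀ (Abelian.factorThruImage φ)) (add_zero q) := by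
    funext z
    show _ = Ext.comp (Ext.comp z (Ext.mk₀ (Abelian.factorThruImage φ)) (add_zero q)) (Ext.mk₀ (Abelian.image.ι φ)) (add_zero q)
    rw [Ext.comp_assoc_of_second_deg_zero, Ext.mk₀_comp_mk₀, Abelian.image.fac]
  rw [e]
  refine Function.Bijective.comp ?_ (bijective_g hS₁ hK q (by omega))
  rcases hq with hq | ⟨rfl, he⟩
  · exact bijective_f hS₂ hC q hq
  · haveI := he
    haveI : Epi (Abelian.image.ι φ) := epi_of_epi_fac (Abelian.image.fac φ)
    haveI : IsIso (Abelian.image.ι φ) := isIso_of_mono_of_epi _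
    refine Function.bijective_iff_has_inverse.2 ⟨fun z => Ext.comp z (Ext.mk₀ (inv (Abelian.image.ι φ))) (add_zero 1),
      fun z => ?_, fun z => ?_⟩
    · show Ext.comp (Ext.comp z (Ext.mk₀ _) (add_zero 1)) (Ext.mk₀ _) (add_zero 1) = z
      rw [Ext.comp_assoc_of_second_deg_zero, Ext.mk₀_comp_mk₀, IsIso.hom_inv_id, Ext.comp_mk₀_id]
    · show Ext.comp (Ext.comp z (Ext.mk₀ _) (add_zero 1)) (Ext.mk₀ _) (add_zero 1) = z
      rw [Ext.comp_assoc_of_second_deg_zero, Ext.mk₀_comp_mk₀, IsIso.inv_hom_id, Ext.comp_mk₀_id]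

end Groth.Agent.EtClosedPts
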