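import Groth.Agent.EtClosedPts.Curve
import Groth.Agent.EtTraceLib.Apply

/-!
# Torsion and divisible sheaves on curves
-/

set_option autoImplicit false
set_option backward.isDefEq.respectTransparency false
set_option backward.isDefEq.respectTransparency.types false
set_option linter.style.haveILetI false
set_option maxHeartbeats 800000

universe u

open CategoryTheory CategoryTheory.Limits AlgebraicGeometry Opposite CategoryTheory.Abelian

noncomputable section

namespace Groth.Agent.EtClosedPts

open EtTraceLib EtPtsLib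

/-- Over a field of cohomological dimension one the cokernel of an embedding of a torsion sheaf into an injective is acyclic. -/
theorem fieldAcyclic_cokernel (K : Type u) [Field K] (hK : NormSurj K) (G : EtCoh.Ab (Spec (CommRingCat.of K)))
    (hG : EtCoh.IsTorsion G) {I : EtCoh.Ab (Spec (CommRingCat.of K))} [Injective I] (i : G ⟶ I) [Mono i] :
    FieldAcyclic K (cokernel i) := by
  intro L _ _ _ _ q x
  obtain ⟨hl, hr⟩ := preservesFiniteLimits_restr (k := K) L
  haveI := hl
  haveI := hr
  let S := ShortComplex.mk i (cokernel.π i) (cokernel.condition i)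
  have hS : S.ShortExact := ⟨ShortComplex.exact_of_g_is_cokernel _ (cokernelIsCokernel i)⟩
  have hS' : (S.map (EtShriek.restrAlong (specπ K L))).ShortExact := hS.map_of_exact _
  haveI : Injective ((EtShriek.restrAlong (specπ K L)).obj I) := injective_restrAlong_specπ K L I
  have hT : EtCoh.IsTorsion ((EtShriek.restrAlong (specπ K L)).obj G) :=
    isTorsion_of_stalks fun Ω _ _ ζ b => by
      let e := (EtCoh.stalk ζ).mapIso ((pullIsoRestr (specπ K L)).app G)
      have h := e.hom.hom.isOfFinAddOrder (isOfFinAddOrder_of_isTorsion ζ (isTorsion_pull (specπ K L) hG) (e.inv b))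
      have e1 : e.hom (e.inv b) = b := e.inv_hom_id_apply b
      exact e1 ▸ h
  have h1 : x.comp hS'.extClass rfl = 0 :=
    eq_zero_of_normSurj (hK.of_finite L) _ hT (q + 2) (by omega) _
  obtain ⟨y, hy⟩ := Ext.covariant_sequence_exact₃ _ hS' x rfl h1
  rw [← hy]
  haveI : Injective (S.map (EtShriek.restrAlong (specπ K L))).X₂ := injective_restrAlong_specπ K L I
  rw [@Subsingleton.elim _ (Ext.subsingleton_of_injective _ _ q) y 0, Ext.zero_comp]

variable {X : Scheme.{u}} {k : Type u} [Field k] [IsSepClosed k] (f : X ⟶ Spec (CommRingCat.of k))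
  [LocallyOfFiniteType f] [QuasiCompact f]

include f in
/-- Direct images of torsion sheaves at points with surjective norms have no cohomology above degree two. -/
theorem subsingleton_H_push_of_normSurj (hdim : topologicalKrullDim X ≤ 1) (y : X) (hK : NormSurj (X.residueField y))
    (G : EtCoh.Ab (Spec (X.residueField y))) (hG : EtCoh.IsTorsion G) (q : ℕ) (hq : 3 ≤ q) :
    Subsingleton (EtCoh.H X ((EtCoh.push (X.fromSpecResidueField y)).obj G) q) := by
  let P := EtCoh.push (X.fromSpecResidueField y)
  haveI : P.IsRightAdjoint := (EtCoh.pullPushAdj (X.fromSpecResidueField y)).isRightAdjoint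
  haveI : PreservesFiniteLimits (EtCoh.pull (X.fromSpecResidueField y)) := Groth.Agent.S0101.result _
  let i := Injective.ι G
  let C := cokernel i
  have hC : FieldAcyclic (X.residueField y : Type u) C := fieldAcyclic_cokernel _ hK G hG i
  haveI : Injective (P.obj (Injective.under G)) :=
    Injective.injective_of_adjoint (EtCoh.pullPushAdj (X.fromSpecResidueField y)) _
  have hIinj : ∀ m, 0 < m → Subsingleton (EtCoh.H X (P.obj (Injective.under G)) m) := fun m hm => by
    obtain ⟨m, rfl⟩ : ∃ n, m = n + 1 := ⟨m - 1, by omega⟩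
    exact Ext.subsingleton_of_injective _ _ m
  have hCv : ∀ m, 0 < m → Subsingleton (EtCoh.H X (P.obj C) m) := fun m hm => by
    obtain ⟨m, rfl⟩ : ∃ n, m = n + 1 := ⟨m - 1, by omega⟩
    refine subsingleton_of_forall_eq 0 fun e => H_push_eq_zero (k := (X.residueField y : Type u))
      (X.fromSpecResidueField y) hC (m + 1) (fun x => ?_) e
    let S := ShortComplex.mk i (cokernel.π i) (cokernel.condition i)
    have hS : S.ShortExact := ⟨ShortComplex.exact_of_g_is_cokernel _ (cokernelIsCokernel i)⟩
    obtain ⟨z, hz⟩ := Ext.covariant_sequence_exact₃ _ hS x rfl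
      (eq_zero_of_normSurj hK G hG (m + 1 + 1) (by omega) _)
    haveI : Injective S.X₂ := inferInstanceAs (Injective (Injective.under G))
    rw [← hz, @Subsingleton.elim _ (Ext.subsingleton_of_injective _ _ m) z 0, Ext.zero_comp]
  -- the image and its cokernel
  let φ := P.map (cokernel.π i)
  have hQ : ∀ m, 0 < m → Subsingleton (EtCoh.H X (cokernel φ) m) := fun m hm => by
    refine subsingleton_H_of_maximal f hdim _ (fun Ω _ _ ξ hmax => ?_) m hm
    haveI : Epi ((EtCoh.stalk ξ).map (cokernel.π φ)) :=
      (AddCommGrpCat.epi_iff_surjective _).2 ((epi_iff_ab _).1 inferInstance Ω ξ)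
    by_cases h : ξ default = y
    · refine IsZero.of_epi_eq_zero ((EtCoh.stalk ξ).map (cokernel.π φ)) ?_
      haveI : Epi ((EtCoh.stalk ξ).map φ) :=
        (AddCommGrpCat.epi_iff_surjective _).2 (surjective_stalk_push_map y ξ h (cokernel.π i))
      rw [← cancel_epi ((EtCoh.stalk ξ).map φ), ← Functor.map_comp, cokernel.condition, Functor.map_zero, comp_zero]
    · exact IsZero.of_epi ((EtCoh.stalk ξ).map (cokernel.π φ))
        (isZero_stalk_push_point y ξ (fun hs => h (eq_of_maximal hmax hs)) _)
  let S₂ := ShortComplex.mk (Abelian.image.ι φ) (cokernel.π φ) (kernel.condition _)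
  have hS₂ : S₂.ShortExact := ⟨ShortComplex.exact_of_f_is_kernel _ (kernelIsKernel _)⟩
  have hJ : ∀ m, 1 < m → Subsingleton (EtCoh.H X (Abelian.image φ) m) := fun m hm =>
    @Function.Injective.subsingleton _ _ _ (bijective_f hS₂ hQ m hm).1 (hCv m (by omega))
  obtain ⟨w, hS⟩ := shortExact_image φ
  haveI : P.Additive := Functor.additive_of_preserves_binary_products P
  have hker : IsLimit (KernelFork.ofι (P.map i) (by rw [← P.map_comp, cokernel.condition, Functor.map_zero] :
      P.map i ≫ φ = 0)) :=
    isLimitForkMapOfIsLimit' P (cokernel.condition i) (monoIsKernelOfCokernel (CokernelCofork.ofπ (cokernel.π i) (cokernel.condition i)) (cokernelIsCokernel i))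
  let eK : kernel φ ≅ P.obj G := (kernelIsKernel φ).conePointUniqueUpToIso hker
  refine subsingleton_H_of_iso eK.symm q ?_
  obtain ⟨n, rfl⟩ : ∃ n, q = n + 1 := ⟨q - 1, by omega⟩
  refine subsingleton_of_forall_eq 0 fun x => ?_
  obtain ⟨z, hz⟩ := Ext.covariant_sequence_exact₁ _ hS x (@Subsingleton.elim _ (hIinj (n + 1) (by omega)) _ 0) rfl
  rw [← hz, @Subsingleton.elim _ (hJ n (by omega)) z 0, Ext.zero_comp]

include f in
/-- Torsion sheaves on curves over algebraically closed fields. -/
theorem subsingleton_H_torsion [IsAlgClosed k] (hdim : topologicalKrullDim X ≤ 1) (F : EtCoh.Ab X)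
    (hF : EtCoh.IsTorsion F) (q : ℕ) (hq : 3 ≤ q) : Subsingleton (EtCoh.H X F q) := by
  obtain ⟨T, hT⟩ := exists_finset_maximal f
  refine subsingleton_H_devissage f hdim 3 (by omega) T (fun y hy => (hT y).1 hy) F
    (fun Ω _ _ ξ hmax hξ => absurd ((hT _).2 (hmax _ ⟨default, rfl⟩)) hξ) (fun y _ m hm => ?_) q hq
  by_cases hcl : IsClosed ({y} : Set X)
  · haveI := isSepClosed_residueField f y hcl
    obtain ⟨m, rfl⟩ : ∃ n, m = n + 1 := ⟨m - 1, by omega⟩
    exact subsingleton_of_forall_eq 0 fun e => H_push_eq_zero (k := (X.residueField y : Type u))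
      (X.fromSpecResidueField y) (fieldAcyclic_of_sepClosed (X.residueField y) _) (m + 1)
      (H_eq_zero_of_sepClosed (X.residueField y) _ m) e
  · refine subsingleton_H_push_of_normSurj f hdim y ?_ _ (isTorsion_atPt y hF) m hm
    letI : X.Over (Spec (CommRingCat.of k)) := ⟨f⟩
    haveI : LocallyOfFiniteType (X ↘ Spec (CommRingCat.of k)) := ‹LocallyOfFiniteType f›
    letI := Curv2.resAlgebra k X y
    obtain ⟨a, t, -, ht, -, hh⟩ := DimFormulaLib.field_dims f y
    have hres : Algebra.trdeg k (X.residueField y) = (t : Cardinal.{u}) :=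
      (DimFormulaLib.resTrdegAt_over k X y).symm.trans ht
    have ht1 : t = 1 := by
      have hle : (t : ℕ∞) ≤ 1 := by
        have h := Order.height_le_krullDim y
        rw [hh] at h
        have h2 := h.trans ((DimLiftLib.topologicalKrullDim_eq ↥X).symm.trans_le hdim)
        exact_mod_cast h2
      have hne : t ≠ 0 := fun h0 => hcl (by
        rw [h0, Nat.cast_zero, Order.height_eq_zero] at hh
        refine isClosed_of_closure_subset fun z hz => ?_
        have hs : y ⤳ z := specializes_iff_mem_closure.2 hz
        exact (Specializes.antisymm (hh hs : z ⤳ y) hs).eq)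
      have : t ≤ 1 := by exact_mod_cast hle
      omega
    exact normSurj_of_brauer_trivial _ (brauer_trivial_of_trdeg_one k (X.residueField y) (by rw [hres, ht1, Nat.cast_one]))

include f in
/-- Uniquely divisible sheaves on curves. -/
theorem subsingleton_H_divisible (hdim : topologicalKrullDim X ≤ 1) (F : EtCoh.Ab X)
    (hdiv : ∀ n : ℕ, 0 < n → IsIso (n • 𝟙 F)) (q : ℕ) (hq : 2 ≤ q) : Subsingleton (EtCoh.H X F q) := by
  obtain ⟨T, hT⟩ := exists_finset_maximal f
  refine subsingleton_H_devissage f hdim 2 le_rfl T (fun y hy => (hT y).1 hy) F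
    (fun Ω _ _ ξ hmax hξ => absurd ((hT _).2 (hmax _ ⟨default, rfl⟩)) hξ) (fun y _ m hm => ?_) q hq
  haveI : (EtCoh.pull (X.fromSpecResidueField y)).IsLeftAdjoint := (EtCoh.pullPushAdj (X.fromSpecResidueField y)).isLeftAdjoint
  haveI : (EtCoh.pull (X.fromSpecResidueField y)).Additive := Functor.additive_of_preserves_binary_products _
  have hd : ∀ n : ℕ, 0 < n → IsIso (n • 𝟙 (atPt y F)) := fun n hn => by
    haveI := hdiv n hn
    have e : (EtCoh.pull (X.fromSpecResidueField y)).map (n • 𝟙 F) = n • 𝟙 (atPt y F) := by
      rw [Functor.map_nsmul, CategoryTheory.Functor.map_id]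
    rw [← e]; infer_instance
  have hA : FieldAcyclic (X.residueField y : Type u) (atPt y F) := fun L _ _ _ _ r x => by
    haveI : (EtShriek.restrAlong (specπ (X.residueField y : Type u) L)).Additive := by
      haveI := (preservesFiniteLimits_restr (k := (X.residueField y : Type u)) L).1
      exact Functor.additive_of_preserves_binary_products _
    refine eq_zero_of_uniquely_divisible L _ (fun n hn => ?_) (r + 1) r.succ_pos x
    haveI := hd n hn
    have e : (EtShriek.restrAlong (specπ (X.residueField y : Type u) L)).map (n • 𝟙 (atPt y F)) =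
        n • 𝟙 ((EtShriek.restrAlong (specπ (X.residueField y : Type u) L)).obj (atPt y F)) := by
      rw [Functor.map_nsmul, CategoryTheory.Functor.map_id]
    rw [← e]; infer_instance
  exact subsingleton_of_forall_eq 0 fun e => H_push_eq_zero (k := (X.residueField y : Type u))
    (X.fromSpecResidueField y) hA m
    (fun x => eq_zero_of_uniquely_divisible (X.residueField y : Type u) _ hd m (by omega) x) e

end Groth.Agent.EtClosedPts
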