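import Groth.Agent.EtClosedPts.PointStalk
import Groth.Agent.EtClosedPts.Generic
import Groth.Agent.EtTraceLib.FieldCd
import Groth.Agent.EtTraceLib.BrauerNorm
import Groth.Agent.EtTraceLib.PushAcyclic
import Groth.Agent.DimFormulaLib.Closed

/-!
# Cohomological dimension of curves
-/

set_option autoImplicit false
set_option backward.isDefEq.respectTransparency false
set_option backward.isDefEq.respectTransparency.types false
set_option linter.style.haveILetI false
set_option maxHeartbeats 800000

universe u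

open CategoryTheory CategoryTheory.Limits AlgebraicGeometry Opposite CategoryTheory.Abelian

noncomputable section

namespace Groth.Agent.EtClosedPts

open EtTraceLib EtPtsLib

variable {X : Scheme.{u}}

theorem subsingleton_H_of_iso {F G : EtCoh.Ab X} (e : F ≅ G) (q : ℕ) (h : Subsingleton (EtCoh.H X G q)) :
    Subsingleton (EtCoh.H X F q) := by
  refine subsingleton_of_forall_eq 0 fun x => ?_
  have h1 : (x.comp (Ext.mk₀ e.hom) (add_zero q)).comp (Ext.mk₀ e.inv) (add_zero q) = x := by
    rw [Ext.comp_assoc_of_second_deg_zero, Ext.mk₀_comp_mk₀, Iso.hom_inv_id, Ext.comp_mk₀_id]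
  rw [← h1, @Subsingleton.elim _ h (x.comp (Ext.mk₀ e.hom) (add_zero q)) 0, Ext.zero_comp]

/-- The factorization of a morphism through its image, as a short exact sequence. -/
theorem shortExact_image {F G : EtCoh.Ab X} (φ : F ⟶ G) :
    ∃ (w : kernel.ι φ ≫ Abelian.factorThruImage φ = 0),
      (ShortComplex.mk (kernel.ι φ) (Abelian.factorThruImage φ) w).ShortExact := by
  refine ⟨by rw [← cancel_mono (Abelian.image.ι φ), Category.assoc, Abelian.image.fac, kernel.condition, zero_comp], ?_⟩
  exact ⟨ShortComplex.exact_of_f_is_kernel _ (isKernelOfComp (Abelian.image.ι φ) φ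
    (kernelIsKernel φ) _ (Abelian.image.fac φ))⟩

theorem eq_of_maximal {y : X} {Ω : Type u} [Field Ω] {ξ : Spec (CommRingCat.of Ω) ⟶ X}
    (hmax : ∀ x ∈ Set.range ξ.base, ∀ z : X, z ⤳ x → z = x) (h : y ⤳ ξ default) : ξ default = y :=
  (hmax _ ⟨default, rfl⟩ y h).symm

variable {k : Type u} [Field k] [IsSepClosed k] (f : X ⟶ Spec (CommRingCat.of k)) [LocallyOfFiniteType f]
  [QuasiCompact f]

include f in
/-- The cokernel of the unit at a point has no higher cohomology. -/
theorem subsingleton_H_cokernel (hdim : topologicalKrullDim X ≤ 1) {F : EtCoh.Ab X} (y : X) (φ : F ⟶ (EtCoh.push (X.fromSpecResidueField y)).obj (atPt y F))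
    (hφ : φ = ptUnit y F) (q : ℕ) (hq : 0 < q) : Subsingleton (EtCoh.H X (cokernel φ) q) := by
  subst hφ
  refine subsingleton_H_of_maximal f hdim _ (fun Ω _ _ ξ hmax => ?_) q hq
  by_cases h : ξ default = y
  · exact (isZero_stalk_kernel_cokernel (ptUnit y F) ξ (isIso_stalk_ptUnit y ξ h F)).2
  · haveI : Epi ((EtCoh.stalk ξ).map (cokernel.π (ptUnit y F))) :=
      (AddCommGrpCat.epi_iff_surjective _).2 ((epi_iff_ab _).1 inferInstance Ω ξ)
    exact IsZero.of_epi ((EtCoh.stalk ξ).map (cokernel.π (ptUnit y F)))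
      (isZero_stalk_push_point y ξ (fun hs => h (eq_of_maximal hmax hs)) _)

omit [IsSepClosed k] [LocallyOfFiniteType f] [QuasiCompact f] in
/-- The kernel of the unit at a point agrees with the sheaf at other maximal points. -/
theorem isIso_atPt_kernel {F : EtCoh.Ab X} (y z : X) (hz : ∀ w : X, w ⤳ z → w = z) (hne : z ≠ y) :
    IsIso ((EtCoh.pull (X.fromSpecResidueField z)).map (kernel.ι (ptUnit y F))) := by
  refine isIso_atPt_map z _ fun Ω _ _ ξ hξ => ?_
  refine (ConcreteCategory.isIso_iff_bijective _).2 ⟨stalk_injective _ ξ, fun b => ?_⟩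
  let S := ShortComplex.mk (kernel.ι (ptUnit y F)) (ptUnit y F) (kernel.condition _)
  have hS : S.Exact := ShortComplex.exact_of_f_is_kernel _ (kernelIsKernel _)
  have hsub := AddCommGrpCat.subsingleton_of_isZero
    (isZero_stalk_push_point y ξ (fun hs => hne (hz y (hξ ▸ hs)).symm) (atPt y F))
  obtain ⟨a, ha⟩ := (ShortComplex.ab_exact_iff _).1 ((exact_iff_ab S).1 hS Ω ξ) b (@Subsingleton.elim _ hsub _ _)
  exact ⟨a, ha⟩

include f in
/-- Dévissage to the maximal points. -/
theorem subsingleton_H_devissage (hdim : topologicalKrullDim X ≤ 1) (n : ℕ) (hn : 2 ≤ n) :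
    ∀ (T : Finset X), (∀ y ∈ T, ∀ w : X, w ⤳ y → w = y) → ∀ F : EtCoh.Ab X,
      (∀ (Ω : Type u) [Field Ω] [IsSepClosed Ω] (ξ : Spec (CommRingCat.of Ω) ⟶ X),
        (∀ x ∈ Set.range ξ.base, ∀ w : X, w ⤳ x → w = x) → ξ default ∉ T → IsZero ((EtCoh.stalk ξ).obj F)) →
      (∀ y ∈ T, ∀ q, n ≤ q → Subsingleton (EtCoh.H X ((EtCoh.push (X.fromSpecResidueField y)).obj (atPt y F)) q)) →
      ∀ q, n ≤ q → Subsingleton (EtCoh.H X F q) := by
  classical
  intro T
  induction T using Finset.induction with
  | empty =>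
    intro _ F h0 _ q hq
    exact subsingleton_H_of_maximal f hdim F (fun Ω _ _ ξ hmax => h0 Ω ξ hmax (Finset.notMem_empty _)) q (by omega)
  | @insert y T hy ih =>
    intro hT F h0 hA q hq
    obtain ⟨w, hS⟩ := shortExact_image (ptUnit y F)
    let S₂ := ShortComplex.mk (Abelian.image.ι (ptUnit y F)) (cokernel.π (ptUnit y F)) (kernel.condition _)
    have hS₂ : S₂.ShortExact := ⟨ShortComplex.exact_of_f_is_kernel _ (kernelIsKernel _)⟩
    have hK : Subsingleton (EtCoh.H X (kernel (ptUnit y F)) q) := by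
      refine ih (fun z hz => hT z (Finset.mem_insert_of_mem hz)) _ (fun Ω _ _ ξ hmax hξ => ?_) (fun z hz q' hq' => ?_) q hq
      · by_cases h : ξ default = y
        · exact (isZero_stalk_kernel_cokernel (ptUnit y F) ξ (isIso_stalk_ptUnit y ξ h F)).1
        · haveI := AddCommGrpCat.subsingleton_of_isZero
            (h0 Ω ξ hmax (by rw [Finset.mem_insert, not_or]; exact ⟨h, hξ⟩))
          exact AddCommGrpCat.isZero_iff_subsingleton.2 (stalk_injective (kernel.ι (ptUnit y F)) ξ).subsingleton
      · haveI := isIso_atPt_kernel (F := F) y z (hT z (Finset.mem_insert_of_mem hz)) (fun e => hy (e ▸ hz))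
        exact subsingleton_H_of_iso ((EtCoh.push (X.fromSpecResidueField z)).mapIso
          (asIso ((EtCoh.pull (X.fromSpecResidueField z)).map (kernel.ι (ptUnit y F))))) q'
          (hA z (Finset.mem_insert_of_mem hz) q' hq')
    have hI : Subsingleton (EtCoh.H X (Abelian.image (ptUnit y F)) q) :=
      @Function.Injective.subsingleton _ _ _ (bijective_f hS₂
        (fun m hm => subsingleton_H_cokernel f hdim y _ rfl m hm) q (by omega)).1 (hA y (Finset.mem_insert_self _ _) q hq)
    refine subsingleton_of_forall_eq 0 fun x => ?_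
    obtain ⟨a, ha⟩ := Ext.covariant_sequence_exact₂ _ hS x (@Subsingleton.elim _ hI _ 0)
    rw [← ha, @Subsingleton.elim _ hK a 0, Ext.zero_comp]

include f in
omit [IsSepClosed k] in
/-- The maximal points are finitely many. -/
theorem exists_finset_maximal : ∃ T : Finset X, ∀ y, y ∈ T ↔ ∀ w : X, w ⤳ y → w = y := by
  haveI : IsLocallyNoetherian X := LocallyOfFiniteType.isLocallyNoetherian f
  haveI : CompactSpace X := (quasiCompact_iff_compactSpace f).1 inferInstance
  haveI : IsNoetherian X := { }
  have hfin : {y : X | ∀ w : X, w ⤳ y → w = y}.Finite := by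
    refine Set.Finite.of_finite_image ((TopologicalSpace.NoetherianSpace.finite_irreducibleComponents (α := X)).subset
      (?_ : (fun y : X => closure ({y} : Set X)) '' _ ⊆ _)) fun a _ b _ h => ?_
    · rintro _ ⟨y, hy, rfl⟩
      refine ⟨isIrreducible_singleton.closure, fun Z hZ hle => ?_⟩
      obtain ⟨g, hg⟩ := QuasiSober.sober hZ.closure isClosed_closure
      have hgy : g ⤳ y := specializes_iff_mem_closure.2 (hg.def ▸ subset_closure (hle (subset_closure rfl)))
      rw [hy g hgy] at hg
      show Z ⊆ closure {y}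
      rw [hg.def]
      exact subset_closure
    · exact (inseparable_iff_closure_eq.2 h).eq
  exact ⟨hfin.toFinset, fun y => hfin.mem_toFinset⟩

end Groth.Agent.EtClosedPts
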