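import Groth.Agent.EtClosedPts.Sky
import Groth.Agent.ShriekLib.Basic
import Groth.Agent.Unibranch.Open

/-!
# Sheaves supported at closed points are sums of skyscrapers
-/

set_option autoImplicit false
set_option backward.isDefEq.respectTransparency false
set_option backward.isDefEq.respectTransparency.types false
set_option linter.style.haveILetI false

universe u

open CategoryTheory CategoryTheory.Limits AlgebraicGeometry Opposite CategoryTheory.Abelian

noncomputable section

namespace Groth.Agent.EtClosedPts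

open EtTraceLib EtPtsLib

variable {X : Scheme.{u}} (F : EtCoh.Ab X)

/-- The complement of a closed point. -/
def away (x : {x : X // IsClosed ({x} : Set X)}) : X.Opens := ⟨({x.1} : Set X)ᶜ, x.2.isOpen_compl⟩

/-- The sections supported at a closed point. -/
def part (x : {x : X // IsClosed ({x} : Set X)}) : EtCoh.Ab X :=
  kernel ((EtCoh.pullPushAdj (away x).ι).unit.app F)

/-- The inclusion of the sections supported at a closed point. -/
def partι (x : {x : X // IsClosed ({x} : Set X)}) : part F x ⟶ F :=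
  kernel.ι ((EtCoh.pullPushAdj (away x).ι).unit.app F)

instance (x : {x : X // IsClosed ({x} : Set X)}) : Mono (partι F x) :=
  inferInstanceAs (Mono (kernel.ι _))

theorem stalk_injective {A B : EtCoh.Ab X} (g : A ⟶ B) [Mono g] {Ω : Type u} [Field Ω] [IsSepClosed Ω]
    (ξ : Spec (CommRingCat.of Ω) ⟶ X) : Function.Injective ((EtCoh.stalk ξ).map g) :=
  (mono_iff_ab g).1 inferInstance Ω ξ

theorem supp_part (x : {x : X // IsClosed ({x} : Set X)}) : EtPBC.supp (part F x) ⊆ {x.1} := by
  rintro y ⟨Ω, _, _, ξ, hξ, hne⟩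
  by_contra hy
  have hy' : ξ default ∈ Set.range (away x).ι := by
    rw [Scheme.Opens.range_ι]
    have : ξ default = y := Set.mem_singleton_iff.1 (hξ ▸ Set.mem_range_self _)
    show ξ default ∉ ({x.1} : Set X)
    rw [this]; exact hy
  obtain ⟨ζ, rfl⟩ := exists_comp_eq (away x).ι ξ hy'
  haveI := isIso_stalk_unit_immersion (away x).ι ζ F
  refine hne (AddCommGrpCat.isZero_iff_subsingleton.2 ⟨fun a b => ?_⟩)
  apply stalk_injective (partι F x) (ζ ≫ (away x).ι)
  apply (ConcreteCategory.bijective_of_isIso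
    ((EtCoh.stalk (ζ ≫ (away x).ι)).map ((EtCoh.pullPushAdj (away x).ι).unit.app F))).1
  have e : (EtCoh.stalk (ζ ≫ (away x).ι)).map (partι F x) ≫
      (EtCoh.stalk (ζ ≫ (away x).ι)).map ((EtCoh.pullPushAdj (away x).ι).unit.app F) = 0 := by
    rw [← Functor.map_comp, partι, kernel.condition, Functor.map_zero]
  exact (ConcreteCategory.congr_hom e a).trans (ConcreteCategory.congr_hom e b).symm

/-- An open piece of an étale scheme. -/
def restr (U : X.Etale) (V : U.left.Opens) : X.Etale :=
  haveI : AlgebraicGeometry.Etale U.hom := U.prop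
  Scheme.Etale.mk (V.ι ≫ U.hom)

/-- Its inclusion. -/
def restrι (U : X.Etale) (V : U.left.Opens) : restr U V ⟶ U :=
  MorphismProperty.Over.homMk V.ι rfl

/-- A section supported over a closed point is killed by the unit of the complement. -/
theorem unit_eq_zero {U : X.Etale} (s : EtCoh.sect F U) (x : {x : X // IsClosed ({x} : Set X)})
    (hs : ∀ z ∈ EtShriek.sectSupp F U s, U.hom z = x.1) :
    ((EtCoh.pullPushAdj (away x).ι).unit.app F).hom.app (op U) s = 0 := by
  let j := (away x).ι
  let V : U.left.Opens := ⟨(EtShriek.sectSupp F U s)ᶜ, (isClosed_sectSupp F U s).isOpen_compl⟩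
  let h := restrι U V
  have h0 : F.obj.map h.op s = 0 := by
    refine sect_eq_zero_of_locally F _ fun v => ?_
    have hv : (V.ι v) ∉ EtShriek.sectSupp F U s := v.2
    have hv' : v ∉ EtShriek.sectSupp F (restr U V) (F.obj.map h.op s) := by
      rw [ShriekLib.sectSupp_map]
      exact hv
    simp only [EtShriek.sectSupp, Set.mem_ofPred_eq, not_forall, ne_eq, not_not] at hv'
    obtain ⟨W, g, hw, hg⟩ := hv'
    exact ⟨W, g, hw, hg⟩
  refine sect_eq_zero_of_locally ((EtCoh.pull j).obj F) (U := (EtCoh.bc j).obj U) _ fun z => ?_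
  let p : ((EtCoh.bc j).obj U).left ⟶ U.left := pullback.fst U.hom j
  have hz : p z ∈ V := fun hmem => by
    have h1 : U.hom (p z) = j ((pullback.snd U.hom j : ((EtCoh.bc j).obj U).left ⟶ _) z) :=
      (Scheme.Hom.comp_apply _ _ z).symm.trans
        ((congrArg (fun q => q z) (pullback.condition (f := U.hom) (g := j))).trans (Scheme.Hom.comp_apply _ _ z))
    exact ((pullback.snd U.hom j : ((EtCoh.bc j).obj U).left ⟶ _) z).2
      (h1.symm.trans (hs _ hmem))
  refine ⟨(EtCoh.bc j).obj (restr U V), (EtCoh.bc j).map h, ?_, ?_⟩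
  · obtain ⟨w, hw⟩ : ∃ w : (restr U V).left, V.ι w = p z := ⟨⟨p z, hz⟩, rfl⟩
    haveI : IsOpenImmersion p := inferInstanceAs (IsOpenImmersion (pullback.fst U.hom j))
    have hw' : (restr U V).hom w = j ((pullback.snd U.hom j : ((EtCoh.bc j).obj U).left ⟶ _) z) :=
      ((Scheme.Hom.comp_apply V.ι U.hom w).trans (congrArg U.hom hw)).trans
        ((Scheme.Hom.comp_apply _ _ z).symm.trans
          ((congrArg (fun q => q z) (pullback.condition (f := U.hom) (g := j))).trans (Scheme.Hom.comp_apply _ _ z)))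
    obtain ⟨v, hv, -⟩ := Scheme.Pullback.exists_preimage_pullback (f := (restr U V).hom) (g := j) w _ hw'
    refine ⟨v, p.isOpenEmbedding.injective ?_⟩
    refine (Scheme.Hom.comp_apply _ _ v).symm.trans ?_
    refine (congrArg (fun q => q v) (EtPtsLib.bcFst_map j h)).trans ?_
    refine (Scheme.Hom.comp_apply _ _ v).trans ?_
    exact (congrArg h.left hv).trans hw
  · refine Eq.trans (NatTrans.naturality_apply ((EtCoh.pullPushAdj j).unit.app F).hom h.op s).symm ?_
    exact (congrArg _ h0).trans (map_zero _)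

/-- Sections of a kernel. -/
theorem exists_kernel_sect {A B : EtCoh.Ab X} (g : A ⟶ B) {U : X.Etale} (t : EtCoh.sect A U)
    (h : g.hom.app (op U) t = 0) : ∃ c : EtCoh.sect (kernel g) U, (kernel.ι g).hom.app (op U) c = t := by
  let G : EtCoh.Ab X ⥤ AddCommGrpCat.{u + 1} :=
    sheafToPresheaf X.smallEtaleTopology AddCommGrpCat.{u + 1} ⋙ (evaluation X.Etaleᵒᵖ AddCommGrpCat.{u + 1}).obj (op U)
  haveI : G.Additive := { map_add := rfl }
  have hK := isLimitForkMapOfIsLimit' G (kernel.condition g) (kernelIsKernel g)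
  let S := ShortComplex.mk (G.map (kernel.ι g)) (G.map g) (by rw [← G.map_comp, kernel.condition, Functor.map_zero])
  have hS : S.Exact := ShortComplex.exact_of_f_is_kernel S hK
  exact (ShortComplex.ab_exact_iff S).1 hS t h

/-- A noetherian quasi-sober space with closed points is finite. -/
theorem finite_of_closed_points {α : Type u} [TopologicalSpace α] [TopologicalSpace.NoetherianSpace α] [QuasiSober α]
    (h : ∀ a : α, IsClosed ({a} : Set α)) : (Set.univ : Set α).Finite := by
  refine (TopologicalSpace.NoetherianSpace.finite_irreducibleComponents (α := α)).biUnion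
    (t := fun Z => Z) (fun Z hZ => ?_) |>.subset fun a _ =>
      Set.mem_biUnion (irreducibleComponent_mem_irreducibleComponents a) mem_irreducibleComponent
  obtain ⟨g, hg⟩ := QuasiSober.sober hZ.1 (isClosed_of_mem_irreducibleComponents Z hZ)
  rw [← hg.def, (h g).closure_eq]
  exact Set.finite_singleton g

/-- The support of a section is discrete. -/
theorem exists_isolating [IsLocallyNoetherian X] (hF : ∀ x ∈ EtPBC.supp F, IsClosed ({x} : Set X)) {U : X.Etale}
    (s : EtCoh.sect F U) (a : U.left) :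
    ∃ t : U.left.Opens, a ∈ t ∧ ∀ b ∈ t, b ∈ EtShriek.sectSupp F U s → b = a := by
  haveI : AlgebraicGeometry.Etale U.hom := U.prop
  haveI : IsLocallyNoetherian U.left := @LocallyOfFiniteType.isLocallyNoetherian U.left X U.hom inferInstance inferInstance
  haveI : LocallyQuasiFinite (U.hom : U.left ⟶ X) := Unibranch.locallyQuasiFinite_of_etale _
  obtain ⟨W, hW, haW, -⟩ := exists_isAffineOpen_mem_and_subset (x := a) (U := (⊤ : U.left.Opens)) trivial
  haveI : IsAffine W.toScheme := hW
  haveI : IsLocallyNoetherian W.toScheme := LocallyOfFiniteType.isLocallyNoetherian W.ι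
  haveI : IsNoetherian W.toScheme := { }
  let S : Set W.toScheme := W.ι ⁻¹' EtShriek.sectSupp F U s
  have hS : IsClosed S := (isClosed_sectSupp F U s).preimage W.ι.continuous
  haveI : QuasiSober S := hS.isClosedEmbedding_subtypeVal.quasiSober
  haveI : TopologicalSpace.NoetherianSpace S := Topology.IsEmbedding.subtypeVal.isInducing.noetherianSpace
  have hpt : ∀ z ∈ EtShriek.sectSupp F U s, IsClosed ({z} : Set U.left) := fun z hz => by
    have hx : IsClosed ({U.hom z} : Set X) := hF _ (by
      rw [supp_eq_iUnion]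
      exact Set.mem_iUnion₂.2 ⟨U, s, z, hz, rfl⟩)
    have hfib : IsClosed (U.hom ⁻¹' {U.hom z}) := hx.preimage U.hom.continuous
    haveI : DiscreteTopology ↥(U.hom ⁻¹' {U.hom z}) :=
      isDiscrete_iff_discreteTopology.1 (U.hom.isDiscrete_preimage_singleton (U.hom z))
    have h := hfib.isClosedEmbedding_subtypeVal.isClosedMap _ (isClosed_discrete {(⟨z, rfl⟩ : ↥(U.hom ⁻¹' {U.hom z}))})
    rwa [Set.image_singleton] at h
  have hfin : (Set.univ : Set S).Finite := finite_of_closed_points fun b => by
    have h := (hpt _ b.2).preimage (W.ι.continuous.comp (continuous_subtype_val (p := (· ∈ S))))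
    convert h using 1
    ext c
    simp only [Set.mem_singleton_iff, Set.mem_preimage, Function.comp_apply]
    exact ⟨fun h => h ▸ rfl, fun h => Subtype.ext (W.ι.isOpenEmbedding.injective h)⟩
  let T : Set U.left := (W.ι '' S) \ {a}
  have hTf : T.Finite := ((hfin.image Subtype.val).subset (fun y hy => ⟨⟨y, hy⟩, trivial, rfl⟩)).image W.ι |>.subset Set.sdiff_subset
  have hT : IsClosed T := by
    rw [← Set.biUnion_of_singleton T]
    exact hTf.isClosed_biUnion fun z hz => hpt z (by obtain ⟨w, hw, rfl⟩ := hz.1; exact hw)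
  refine ⟨W ⊓ ⟨Tᶜ, hT.isOpen_compl⟩, ⟨haW, fun h => h.2 rfl⟩, fun b hb hbs => by_contra fun hne => hb.2 ?_⟩
  exact ⟨⟨⟨b, hb.1⟩, hbs, rfl⟩, hne⟩

variable [IsLocallyNoetherian X]

/-- Near a point of its support, a section lies in one of the parts. -/
theorem exists_part (hF : ∀ x ∈ EtPBC.supp F, IsClosed ({x} : Set X)) {U : X.Etale} (s : EtCoh.sect F U)
    {Ω : Type u} [Field Ω] [IsSepClosed Ω] (ξ : Spec (CommRingCat.of Ω) ⟶ X)
    (l : (Scheme.pointSmallEtale ξ).fiber.obj U) (x : {x : X // IsClosed ({x} : Set X)}) (hx : x.1 = ξ default) :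
    ∃ a, (EtCoh.stalk ξ).map (partι F x) a = germ ξ F l s := by
  haveI : AlgebraicGeometry.Etale U.hom := U.prop
  let u₀ := liftHom ξ l default
  have hu₀ : U.hom u₀ = x.1 := by
    rw [hx]; exact (Scheme.Hom.comp_apply _ _ _).symm.trans (congrArg (fun q => q default) (liftHom_comp ξ l))
  obtain ⟨V, huV, hV⟩ := exists_isolating F hF s u₀
  let h := restrι U V
  obtain ⟨l', hl'⟩ := exists_fiber_map_eq ξ h l ⟨u₀, huV⟩ rfl
  have hker : ((EtCoh.pullPushAdj (away x).ι).unit.app F).hom.app (op (restr U V)) (F.obj.map h.op s) = 0 := by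
    refine unit_eq_zero F _ x fun z hz => ?_
    rw [ShriekLib.sectSupp_map] at hz
    exact (congrArg U.hom (hV _ z.2 hz)).trans hu₀
  obtain ⟨c, hc⟩ := exists_kernel_sect ((EtCoh.pullPushAdj (away x).ι).unit.app F) (F.obj.map h.op s) hker
  refine ⟨germ ξ (part F x) l' c, ?_⟩
  have e : germ ξ F l s = germ ξ F l' (F.obj.map h.op s) := by
    rw [← hl']
    exact ((Scheme.pointSmallEtale ξ).toPresheafFiber_w_apply h l' F.obj s).symm
  rw [e, ← hc]
  exact (Scheme.pointSmallEtale ξ).toPresheafFiber_naturality_apply (partι F x).hom (restr U V) l' c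

/-- The sum of the parts maps to the sheaf. -/
def desc [HasColimitsOfShape (Discrete {x : X // IsClosed ({x} : Set X)}) (EtCoh.Ab X)] : (∐ fun x => part F x) ⟶ F :=
  Sigma.desc fun x => partι F x

/-- A sheaf supported at closed points is the sum of its parts. -/
theorem isIso_desc [HasColimitsOfShape (Discrete {x : X // IsClosed ({x} : Set X)}) (EtCoh.Ab X)]
    (hF : ∀ x ∈ EtPBC.supp F, IsClosed ({x} : Set X)) : IsIso (desc F) := by
  refine FLCLib.isIso_of_stalk _ fun Ω _ _ ξ => ?_
  haveI : PreservesColimitsOfShape (Discrete {x : X // IsClosed ({x} : Set X)}) (EtCoh.stalk ξ) := inferInstance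
  have hcol := isColimitCofanMkObjOfIsColimit (EtCoh.stalk ξ) _ _ (coproductIsCoproduct fun x => part F x)
  have hzero : ∀ x : {x : X // IsClosed ({x} : Set X)}, x.1 ≠ ξ default → IsZero ((EtCoh.stalk ξ).obj (part F x)) :=
    fun x hx => by
      by_contra hne
      exact hx (Set.mem_singleton_iff.1 (supp_part F x ⟨Ω, inferInstance, inferInstance, ξ, range_eq_singleton ξ, hne⟩)).symm
  by_cases hy : IsClosed ({ξ default} : Set X)
  · let y : {x : X // IsClosed ({x} : Set X)} := ⟨ξ default, hy⟩
    haveI : IsIso ((EtCoh.stalk ξ).map (partι F y)) :=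
      (ConcreteCategory.isIso_iff_bijective _).2 ⟨stalk_injective _ ξ, fun b => by
        obtain ⟨U, l, s, rfl⟩ := (Scheme.pointSmallEtale ξ).toPresheafFiber_jointly_surjective b
        exact exists_part F hF s ξ l y rfl⟩
    have hfac : (EtCoh.stalk ξ).map (Sigma.ι (fun x => part F x) y) ≫ (EtCoh.stalk ξ).map (desc F) =
        (EtCoh.stalk ξ).map (partι F y) := by
      rw [← Functor.map_comp, desc, Sigma.ι_desc]
    haveI : Epi ((EtCoh.stalk ξ).map (Sigma.ι (fun x => part F x) y)) := ⟨fun g g' h => by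
      refine Cofan.IsColimit.hom_ext hcol _ _ fun x => ?_
      rcases eq_or_ne x y with rfl | hne
      · exact h
      · exact (hzero x fun h => hne (Subtype.ext h)).eq_of_src _ _⟩
    haveI : Mono ((EtCoh.stalk ξ).map (Sigma.ι (fun x => part F x) y)) :=
      mono_of_mono_fac hfac
    haveI : IsIso ((EtCoh.stalk ξ).map (Sigma.ι (fun x => part F x) y)) := isIso_of_mono_of_epi _
    exact IsIso.of_isIso_fac_left hfac
  · have h1 : IsZero ((EtCoh.stalk ξ).obj (∐ fun x => part F x)) := by
      rw [IsZero.iff_id_eq_zero]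
      exact Cofan.IsColimit.hom_ext hcol _ _ fun x => (hzero x fun h => hy (h ▸ x.2)).eq_of_src _ _
    have h2 : IsZero ((EtCoh.stalk ξ).obj F) := by
      by_contra hne
      exact hy (hF _ ⟨Ω, inferInstance, inferInstance, ξ, range_eq_singleton ξ, hne⟩)
    exact isIso_of_source_target_iso_zero _ h1.isoZero h2.isoZero

include F in
/-- Sheaves supported at closed points have no higher cohomology over a separably closed field. -/
theorem subsingleton_H_of_supp_closedPoints {k : Type u} [Field k] [IsSepClosed k] (f : X ⟶ Spec (CommRingCat.of k))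
    [LocallyOfFiniteType f] [CompactSpace X] [QuasiSeparatedSpace X]
    (hF : ∀ x ∈ EtPBC.supp F, IsClosed ({x} : Set X)) (q : ℕ) (hq : 0 < q) : Subsingleton (EtCoh.H X F q) := by
  obtain ⟨n, rfl⟩ : ∃ n, q = n + 1 := ⟨q - 1, by omega⟩
  haveI := isIso_desc F hF
  have hS := subsingleton_H_coprod (fun x => part F x) (coproductIsCoproduct fun x => part F x) (n + 1)
    fun x e => H_eq_zero_of_supp f x.1 x.2 (supp_part F x) n e
  refine subsingleton_of_forall_eq 0 fun e => ?_
  have h1 : e.comp (Ext.mk₀ (inv (desc F))) (add_zero _) = 0 := @Subsingleton.elim _ hS _ 0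
  have h2 : (e.comp (Ext.mk₀ (inv (desc F))) (add_zero _)).comp (Ext.mk₀ (desc F)) (add_zero _) = e := by
    rw [Ext.comp_assoc_of_second_deg_zero, Ext.mk₀_comp_mk₀, IsIso.inv_hom_id, Ext.comp_mk₀_id]
  rw [← h2, h1, Ext.zero_comp]

end Groth.Agent.EtClosedPts
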