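import Groth.Agent.EtPtsLib.PushStalk
import Groth.Agent.EtTraceLib.Kill
import Groth.Agent.Unibranch.Open

/-!
# Étale schemes over the spectrum of a residue field come from the ambient scheme
-/

set_option autoImplicit false
set_option backward.isDefEq.respectTransparency false
set_option linter.style.haveILetI false

universe u

open CategoryTheory CategoryTheory.Limits AlgebraicGeometry Opposite Polynomial
open scoped TensorProduct

noncomputable section

namespace Groth.Agent.EtClosedPts

/-- A finite separable extension of a field of fractions is generated by a root of an étale equation. -/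
theorem exists_standardEtale {R : Type u} [CommRing R] (κ : Type u) [Field κ] (ρ : R →+* κ)
    (hρ : ∀ q : κ[X], q.Monic → ∃ s : R, ρ s ≠ 0 ∧ ∃ F : R[X], F.Monic ∧ F.map ρ = q.scaleRoots (ρ s))
    (L : Type u) [Field L] [Algebra κ L] [FiniteDimensional κ L] [Algebra.IsSeparable κ L] :
    letI := ρ.toAlgebra
    ∃ (P : StandardEtalePair R), Nonempty (κ ⊗[R] P.Ring →ₐ[κ] L) ∧ Nonempty (L →ₐ[κ] κ ⊗[R] P.Ring) := by
  letI := ρ.toAlgebra
  obtain ⟨α, hα⟩ := Field.exists_primitive_element κ L
  have hint : IsIntegral κ α := IsIntegral.of_finite κ α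
  obtain ⟨s, hs, F, hF, hFm⟩ := hρ (minpoly κ α) (minpoly.monic hint)
  set c := ρ s with hc
  let β := algebraMap κ L c * α
  have hFβ : aeval β (F.map ρ) = 0 := by
    rw [hFm]; exact scaleRoots_aeval_eq_zero (minpoly.aeval κ α)
  have hcL : algebraMap κ L c ≠ 0 := (_root_.map_ne_zero _).2 hs
  have hβ : IntermediateField.adjoin κ {β} = ⊤ := by
    rw [eq_top_iff, ← hα, IntermediateField.adjoin_simple_le_iff]
    have e : α = algebraMap κ L c⁻¹ * β := by
      simp only [β]; rw [← mul_assoc, map_inv₀, inv_mul_cancel₀ hcL, one_mul]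
    rw [e]
    exact mul_mem (IntermediateField.algebraMap_mem _ _) (IntermediateField.mem_adjoin_simple_self κ β)
  have hmin : minpoly κ β = F.map ρ := by
    refine (eq_of_monic_of_dvd_of_natDegree_le (minpoly.monic (IsIntegral.of_finite κ β)) (hF.map ρ)
      (minpoly.dvd κ β hFβ) ?_).symm
    rw [hFm, natDegree_scaleRoots, (Field.primitive_element_iff_minpoly_natDegree_eq κ α).1 hα,
      (Field.primitive_element_iff_minpoly_natDegree_eq κ β).1 hβ]
  have hu : aeval β ((derivative F).map ρ) ≠ 0 := by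
    rw [← derivative_map, ← hmin]
    exact (Algebra.IsSeparable.isSeparable κ β).aeval_derivative_ne_zero (minpoly.aeval κ β)
  let P : StandardEtalePair R := ⟨F, hF, derivative F, 1, 0, 1, by simp⟩
  refine ⟨P, ?_, ?_⟩
  · letI : Algebra R L := ((algebraMap κ L).comp ρ).toAlgebra
    haveI : IsScalarTower R κ L := IsScalarTower.of_algebraMap_eq fun _ => rfl
    have hmap : P.HasMap β := by
      refine ⟨?_, ?_⟩
      · rw [← aeval_map_algebraMap κ β F]; exact hFβ
      · rw [← aeval_map_algebraMap κ β (derivative F)]; exact hu.isUnit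
    exact ⟨Algebra.TensorProduct.lift (Algebra.ofId κ L) (P.lift β hmap) fun _ _ => Commute.all _ _⟩
  · let T : κ ⊗[R] P.Ring := 1 ⊗ₜ P.X
    have hT : aeval T (F.map ρ) = 0 := by
      rw [show F.map ρ = F.map (algebraMap R κ) from rfl, aeval_map_algebraMap]
      exact (aeval_algHom_apply (Algebra.TensorProduct.includeRight : P.Ring →ₐ[R] κ ⊗[R] P.Ring) P.X F).trans
        (by rw [show aeval P.X F = 0 from (P.hasMap_X).1, map_zero])
    have hroot : aeval (algebraMap κ _ c⁻¹ * T) (minpoly κ α) = 0 := by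
      have h := scaleRoots_eval₂_mul (p := minpoly κ α) (algebraMap κ (κ ⊗[R] P.Ring)) (algebraMap κ _ c⁻¹ * T) c
      rw [← mul_assoc, ← map_mul, mul_inv_cancel₀ hs, map_one, one_mul, ← aeval_def, ← hFm, hT] at h
      exact (((IsUnit.mk0 _ hs).map _).pow _).mul_right_eq_zero.1 h.symm
    let g := (IntermediateField.adjoin.powerBasis hint).lift (algebraMap κ (κ ⊗[R] P.Ring) c⁻¹ * T)
      (by rw [IntermediateField.adjoin.powerBasis_gen, IntermediateField.minpoly_gen]; exact hroot)
    exact ⟨g.comp ((IntermediateField.equivOfEq hα).trans IntermediateField.topEquiv).symm.toAlgHom⟩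

variable {X : Scheme.{u}}

/-- The residue field of a point is reached from the functions near it by clearing denominators. -/
theorem exists_residue_data (y : X) :
    ∃ (R : CommRingCat.{u}) (j : Spec R ⟶ X) (_ : IsOpenImmersion j) (ρ : R ⟶ X.residueField y),
      Spec.map ρ ≫ j = X.fromSpecResidueField y ∧
      ∀ q : (X.residueField y)[X], q.Monic → ∃ s : R, ρ.hom s ≠ 0 ∧
        ∃ F : (R : Type u)[X], F.Monic ∧ F.map ρ.hom = q.scaleRoots (ρ.hom s) := by
  obtain ⟨W, hW, hy, -⟩ := exists_isAffineOpen_mem_and_subset (x := y) (U := (⊤ : X.Opens)) trivial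
  refine ⟨Γ(X, W), hW.fromSpec, inferInstance, X.presheaf.germ W y hy ≫ X.residue y, ?_, fun q hq => ?_⟩
  · rw [Spec.map_comp, Category.assoc, ← IsAffineOpen.fromSpecStalk, IsAffineOpen.fromSpecStalk_eq_fromSpecStalk]
    rfl
  · letI := (X.presheaf.germ W y hy).hom.toAlgebra
    haveI := hW.isLocalization_stalk ⟨y, hy⟩
    obtain ⟨q', hq', -, hq'm⟩ := lifts_and_degree_eq_and_monic
      ((mem_lifts q).2 (map_surjective (X.residue y).hom (X.residue_surjective y) q)) hq
    let M := (hW.primeIdealOf ⟨y, hy⟩).asIdeal.primeCompl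
    obtain ⟨F, hF, -, hFm⟩ := lifts_and_natDegree_eq_and_monic
      (IsLocalization.scaleRoots_commonDenom_mem_lifts M q' (by rw [hq'm.leadingCoeff]; exact one_mem _))
      (by rwa [monic_scaleRoots_iff])
    let d := IsLocalization.commonDenom M q'.support q'.coeff
    have hd : ((X.residue y).hom (algebraMap Γ(X, W) (X.presheaf.stalk y) d)) ≠ 0 :=
      ((IsLocalization.map_units (X.presheaf.stalk y) d).map (X.residue y).hom).ne_zero
    refine ⟨d, hd, F, hFm, ?_⟩
    rw [CommRingCat.hom_comp, ← Polynomial.map_map, show F.map (X.presheaf.germ W y hy).hom = q'.scaleRoots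
      (algebraMap Γ(X, W) (X.presheaf.stalk y) d) from hF, map_scaleRoots _ _ _ (by rw [hq'm.leadingCoeff, map_one]; exact one_ne_zero), hq']
    rfl

/-- Étale schemes over a point come locally from the ambient scheme. -/
theorem liftsLocally_fromSpecResidueField (y : X) : EtPtsLib.LiftsLocally (X.fromSpecResidueField y) := by
  intro U x
  let κ : Type u := X.residueField y
  let p : U.left ⟶ Spec (CommRingCat.of κ) := U.hom
  haveI : AlgebraicGeometry.Etale p := U.prop
  haveI : LocallyQuasiFinite p := Unibranch.locallyQuasiFinite_of_etale p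
  have hop : IsOpen ({x} : Set U.left) := by
    have e : p ⁻¹' {p x} = Set.univ := Set.eq_univ_of_forall fun z => Subsingleton.elim (α := PrimeSpectrum κ) _ _
    have hd : DiscreteTopology ↥(p ⁻¹' {p x}) := isDiscrete_iff_discreteTopology.1 (p.isDiscrete_preimage_singleton _)
    rw [e] at hd
    haveI : DiscreteTopology U.left := (Homeomorph.Set.univ U.left).discreteTopology_iff.1 hd
    exact isOpen_discrete _
  let O : U.left.Opens := ⟨{x}, hop⟩
  haveI : AlgebraicGeometry.Etale (O.ι ≫ p) := inferInstance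
  obtain ⟨L, _, _, _, _, h, hh⟩ := EtTraceLib.exists_point_of_etale κ (O.ι ≫ p) ⟨x, rfl⟩
  obtain ⟨R, j, hj, ρ, hρ, hlift⟩ := exists_residue_data y
  letI : Algebra R κ := ρ.hom.toAlgebra
  obtain ⟨P, ⟨a⟩, ⟨b⟩⟩ := exists_standardEtale κ ρ.hom hlift L
  let σ : R ⟶ CommRingCat.of P.Ring := CommRingCat.ofHom (algebraMap R P.Ring)
  haveI : AlgebraicGeometry.Etale (Spec.map σ) :=
    (HasRingHomProperty.Spec_iff (P := @AlgebraicGeometry.Etale)).2 (RingHom.etale_algebraMap.2 inferInstance)
  let V : X.Etale := Scheme.Etale.mk (Spec.map σ ≫ j)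
  have hpb : IsPullback (Spec.map (CommRingCat.ofHom (Algebra.TensorProduct.includeRight :
      P.Ring →ₐ[R] κ ⊗[R] P.Ring).toRingHom))
      (Spec.map (CommRingCat.ofHom (Algebra.TensorProduct.includeLeftRingHom : κ →+* κ ⊗[R] P.Ring)))
      (Spec.map σ ≫ j) (X.fromSpecResidueField y) := by
    rw [← hρ]
    have h1 : IsPullback (Spec.map (CommRingCat.ofHom (Algebra.TensorProduct.includeRight :
        P.Ring →ₐ[R] κ ⊗[R] P.Ring).toRingHom))
        (Spec.map (CommRingCat.ofHom (Algebra.TensorProduct.includeLeftRingHom : κ →+* κ ⊗[R] P.Ring)))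
        (Spec.map σ) (Spec.map ρ) :=
      (isPullback_SpecMap_of_isPushout _ _ _ _ (CommRingCat.isPushout_tensorProduct R κ P.Ring)).flip
    have h2 : IsPullback (Spec.map ρ) (𝟙 (Spec (CommRingCat.of κ))) j (Spec.map ρ ≫ j) :=
      IsPullback.of_isLimit' ⟨(Category.id_comp _).symm⟩ (PullbackCone.IsLimit.mk _ (fun c => c.snd)
        (fun c => (cancel_mono j).1 (by rw [Category.assoc]; exact c.condition.symm))
        (fun c => Category.comp_id _) (fun c m _ hm => (Category.comp_id m).symm.trans hm))
    have h3 := h1.paste_vert h2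
    rwa [Category.comp_id] at h3
  let Φ : ((EtCoh.bc (X.fromSpecResidueField y)).obj V).left ⟶ Spec (CommRingCat.of L) :=
    hpb.isoPullback.inv ≫ Spec.map (CommRingCat.ofHom b.toRingHom)
  have hb : Spec.map (CommRingCat.ofHom b.toRingHom) ≫ Spec.map (CommRingCat.ofHom (algebraMap κ L)) =
      Spec.map (CommRingCat.ofHom (Algebra.TensorProduct.includeLeftRingHom : κ →+* κ ⊗[R] P.Ring)) := by
    rw [← Spec.map_comp]
    exact congrArg Spec.map (CommRingCat.hom_ext (RingHom.ext fun r => b.commutes r))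
  refine ⟨V, MorphismProperty.Over.homMk (Φ ≫ h ≫ O.ι) ?_, ?_⟩
  · change (Φ ≫ h ≫ O.ι) ≫ p = pullback.snd V.hom (X.fromSpecResidueField y)
    rw [Category.assoc, Category.assoc, Category.assoc, hh]
    exact (Category.assoc _ _ _).trans ((congrArg (hpb.isoPullback.inv ≫ ·) hb).trans hpb.isoPullback_inv_snd)
  · refine ⟨hpb.isoPullback.hom (Spec.map (CommRingCat.ofHom a.toRingHom) (IsLocalRing.closedPoint L)), ?_⟩
    change (Φ ≫ h ≫ O.ι) _ = x
    rw [Scheme.Hom.comp_apply, Scheme.Hom.comp_apply]
    exact (h _).2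

theorem bcInducing_fromSpecResidueField (y : X) : EtPtsLib.BcInducing (X.fromSpecResidueField y) := fun V =>
  haveI : IsPreimmersion (pullback.fst V.hom (X.fromSpecResidueField y)) :=
    MorphismProperty.pullback_fst (P := @IsPreimmersion) _ _ (show IsPreimmersion (X.fromSpecResidueField y) by infer_instance)
  (pullback.fst V.hom (X.fromSpecResidueField y)).isEmbedding.isInducing

end Groth.Agent.EtClosedPts
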